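/-
`PSL₂(7)` inside `SU₃(3)`, by an explicit table over `F₉`.

* `phi` : the table
* `exists_hom` : a homomorphism `SL₂(7) → SU₃(3)`
-/
import Cfsg.Agent.EqLemmas
import Cfsg.Agent.Lib.Schur.CoverSL32
import Cfsg.Agent.Lib.Unitary.Group

set_option autoImplicit false
set_option linter.unusedSectionVars false

open scoped Matrix

namespace Cfsg.Agent.U33L27

/-- `a + b i` with `i ^ 2 = -1`. -/
abbrev K9 : Type := ZMod 3 × ZMod 3
/-- A row. -/
abbrev Row : Type := K9 × K9 × K9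
/-- A 3 × 3 matrix over `K9`. -/
abbrev M9 : Type := Row × Row × Row

set_option synthInstance.maxSize 2000 in
instance instDecEqM9 : DecidableEq M9 := inferInstance

/-- Multiplication. -/
def km (x y : K9) : K9 := (x.1 * y.1 - x.2 * y.2, x.1 * y.2 + x.2 * y.1)
/-- Conjugation. -/
def kc (x : K9) : K9 := (x.1, -x.2)
/-- Row times row. -/
def dot (u v : Row) : K9 := km u.1 v.1 + km u.2.1 v.2.1 + km u.2.2 v.2.2
/-- A row conjugated. -/
def rc (u : Row) : Row := (kc u.1, kc u.2.1, kc u.2.2)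
/-- The columns. -/
def tr (M : M9) : M9 :=
  ((M.1.1, M.2.1.1, M.2.2.1), (M.1.2.1, M.2.1.2.1, M.2.2.2.1), (M.1.2.2, M.2.1.2.2, M.2.2.2.2))
/-- The product of matrices. -/
def mm (A B : M9) : M9 :=
  let C := tr B
  ((dot A.1 C.1, dot A.1 C.2.1, dot A.1 C.2.2), (dot A.2.1 C.1, dot A.2.1 C.2.1, dot A.2.1 C.2.2),
    (dot A.2.2 C.1, dot A.2.2 C.2.1, dot A.2.2 C.2.2))
/-- The identity. -/
def one9 : M9 := (((1, 0), 0, 0), (0, (1, 0), 0), (0, 0, (1, 0)))
/-- The determinant. -/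
def det9 (M : M9) : K9 :=
  km (km M.1.1 M.2.1.2.1) M.2.2.2.2 - km (km M.1.1 M.2.1.2.2) M.2.2.2.1
    - km (km M.1.2.1 M.2.1.1) M.2.2.2.2 + km (km M.1.2.1 M.2.1.2.2) M.2.2.1
    + km (km M.1.2.2 M.2.1.1) M.2.2.2.1 - km (km M.1.2.2 M.2.1.2.1) M.2.2.1
/-- Unitary of determinant one. -/
def isSU (M : M9) : Prop :=
  let C := tr M
  ((dot C.1 (rc C.1), dot C.1 (rc C.2.1), dot C.1 (rc C.2.2)),
    (dot C.2.1 (rc C.1), dot C.2.1 (rc C.2.1), dot C.2.1 (rc C.2.2)),
    (dot C.2.2 (rc C.1), dot C.2.2 (rc C.2.1), dot C.2.2 (rc C.2.2))) = one9 ∧ det9 M = (1, 0)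

instance : DecidablePred isSU := fun M => inferInstanceAs (Decidable (_ ∧ _))

/-- Images of the powers of `(1 1; 0 1)`. -/
def imT : ZMod 7 → M9 :=
  ![(((1, 0), (0, 0), (0, 0)), ((0, 0), (1, 0), (0, 0)), ((0, 0), (0, 0), (1, 0))),
    (((0, 0), (0, 0), (0, 1)), ((1, 1), (1, 1), (0, 0)), ((1, 1), (2, 2), (0, 0))),
    (((2, 1), (1, 2), (0, 0)), ((0, 2), (0, 2), (2, 1)), ((0, 1), (0, 1), (2, 1))),
    (((2, 0), (2, 0), (2, 2)), ((2, 2), (0, 2), (1, 0)), ((0, 1), (1, 1), (2, 0))),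
    (((2, 0), (2, 1), (0, 2)), ((2, 0), (0, 1), (1, 2)), ((2, 1), (1, 0), (2, 0))),
    (((2, 2), (0, 1), (0, 2)), ((1, 1), (0, 1), (0, 2)), ((0, 0), (2, 2), (2, 2))),
    (((0, 0), (1, 2), (1, 2)), ((0, 0), (1, 2), (2, 1)), ((0, 2), (0, 0), (0, 0)))]

/-- Image of `(0 -1; 1 0)`. -/
def imW : M9 := (((0, 0), (1, 1), (1, 2)), ((1, 2), (1, 0), (0, 1)), ((1, 1), (0, 2), (1, 0)))

/-- Images of the diagonal matrices. -/
def imD : ZMod 7 → M9 :=
  ![(((1, 0), (0, 0), (0, 0)), ((0, 0), (1, 0), (0, 0)), ((0, 0), (0, 0), (1, 0))),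
    (((1, 0), (0, 0), (0, 0)), ((0, 0), (1, 0), (0, 0)), ((0, 0), (0, 0), (1, 0))),
    (((0, 2), (2, 1), (1, 0)), ((1, 1), (1, 0), (2, 0)), ((0, 1), (1, 0), (2, 1))),
    (((0, 1), (1, 2), (0, 2)), ((2, 2), (1, 0), (1, 0)), ((1, 0), (2, 0), (2, 2))),
    (((0, 1), (1, 2), (0, 2)), ((2, 2), (1, 0), (1, 0)), ((1, 0), (2, 0), (2, 2))),
    (((0, 2), (2, 1), (1, 0)), ((1, 1), (1, 0), (2, 0)), ((0, 1), (1, 0), (2, 1))),
    (((1, 0), (0, 0), (0, 0)), ((0, 0), (1, 0), (0, 0)), ((0, 0), (0, 0), (1, 0)))]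

/-- The map on entries. -/
def ent (a b c d : ZMod 7) : M9 :=
  if c = 0 then mm (imD a) (imT (b * a ^ 5))
  else mm (mm (mm (imT (a * c ^ 5)) imW) (imD c)) (imT (d * c ^ 5))

theorem entry_T : ∀ a b c d : ZMod 7, a * d - b * c = 1 →
    ent (a + c) (b + d) c d = mm (imT 1) (ent a b c d) := by decide +kernel

theorem entry_W : ∀ a b c d : ZMod 7, a * d - b * c = 1 →
    ent (6 * c) (6 * d) a b = mm imW (ent a b c d) := by decide +kernel

theorem entry_SU : ∀ a b c d : ZMod 7, a * d - b * c = 1 → isSU (ent a b c d) := by decide +kernel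

set_option synthInstance.maxSize 2000 in
theorem entry_central : ∀ a b c d : ZMod 7, a * d - b * c = 1 →
    a + c = a → b + d = a + b → 6 * c = b → 6 * d = 6 * a → ent a b c d = one9 := by decide +kernel

theorem not_comm : mm (imT 1) imW ≠ mm imW (imT 1) := by decide +kernel

/-- The table on `SL₂(7)`. -/
def phi (g : Schur.A7) : M9 := ent (g.1 0 0) (g.1 0 1) (g.1 1 0) (g.1 1 1)

theorem phi_one : phi 1 = one9 := by decide +kernel

theorem phi_T (g : Schur.A7) : phi (Schur.cT 1 * g) = mm (imT 1) (phi g) := by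
  have h := entry_T _ _ _ _ (Schur.det_eq g)
  simpa [phi, Schur.cT_val, Schur.val_mul] using h

theorem phi_W (g : Schur.A7) : phi (Schur.cW * g) = mm imW (phi g) := by
  have h := entry_W _ _ _ _ (Schur.det_eq g)
  simpa [phi, Schur.cW_val, Schur.val_mul] using h

theorem phi_cT : phi (Schur.cT 1) = imT 1 := by decide +kernel
theorem phi_cW : phi Schur.cW = imW := by decide +kernel

variable {F : Type*} [Field F] [CharP F 3] (i : F)

/-- The embedding of `K9`. -/
def kk (x : K9) : F := ZMod.castHom (dvd_refl 3) F x.1 + ZMod.castHom (dvd_refl 3) F x.2 * i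

theorem kk_add (x y : K9) : kk i (x + y) = kk i x + kk i y := by
  simp only [kk, Prod.fst_add, Prod.snd_add, map_add]; ring

theorem kk_sub (x y : K9) : kk i (x - y) = kk i x - kk i y := by
  simp only [kk, Prod.fst_sub, Prod.snd_sub, map_sub]; ring

theorem kk_zero : kk i (0 : K9) = 0 := by simp [kk]
theorem kk_one : kk i ((1, 0) : K9) = 1 := by simp [kk]

variable {i}

theorem kk_mul (hi : i * i = -1) (x y : K9) : kk i (km x y) = kk i x * kk i y := by
  simp only [kk, km, map_add, map_sub, map_mul]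
  linear_combination (-(ZMod.castHom (dvd_refl 3) F x.2 * ZMod.castHom (dvd_refl 3) F y.2)) * hi

theorem kk_conj (hi : i * i = -1) (x : K9) : kk i (kc x) = kk i x ^ 3 := by
  have h3 : (3 : F) = 0 := by exact_mod_cast CharP.cast_eq_zero F 3
  have hc : ∀ a : ZMod 3, (ZMod.castHom (dvd_refl 3) F a) ^ 3 = ZMod.castHom (dvd_refl 3) F a := by
    intro a
    rw [← map_pow]
    exact congrArg _ ((by decide : ∀ a : ZMod 3, a ^ 3 = a) a)
  simp only [kk, kc, map_neg]
  set a := ZMod.castHom (dvd_refl 3) F x.1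
  set b := ZMod.castHom (dvd_refl 3) F x.2
  have ha : a ^ 3 = a := hc x.1
  have hb : b ^ 3 = b := hc x.2
  linear_combination (-1 : F) * ha + i * hb - (a ^ 2 * b * i + a * b ^ 2 * i ^ 2) * h3 - b ^ 3 * i * hi

variable (i) in
/-- The matrix over `F`. -/
def toMat (M : M9) : Matrix (Fin 3) (Fin 3) F :=
  !![kk i M.1.1, kk i M.1.2.1, kk i M.1.2.2; kk i M.2.1.1, kk i M.2.1.2.1, kk i M.2.1.2.2;
    kk i M.2.2.1, kk i M.2.2.2.1, kk i M.2.2.2.2]

theorem toMat_mm (hi : i * i = -1) (A B : M9) : toMat i (mm A B) = toMat i A * toMat i B := by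
  ext r c
  fin_cases r <;> fin_cases c <;>
    simp [toMat, mm, tr, dot, kk_add, kk_mul hi, Matrix.mul_apply, Fin.sum_univ_three]

theorem toMat_one : toMat i one9 = 1 := by
  ext r c
  fin_cases r <;> fin_cases c <;> simp [toMat, one9, kk_one, kk_zero]

theorem kk_injective (hi : i * i = -1) : Function.Injective (kk i) := by
  have h0 : ∀ x : K9, x ≠ 0 → kk i x ≠ 0 := by
    intro x hx h
    have hn : kk i (km x (kc x)) = 0 := by rw [kk_mul hi, h, zero_mul]
    have hv : (km x (kc x)).2 = 0 ∧ (km x (kc x)).1 ≠ 0 :=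
      (by decide : ∀ x : K9, x ≠ 0 → (km x (kc x)).2 = 0 ∧ (km x (kc x)).1 ≠ 0) x hx
    rw [kk, hv.1, map_zero, zero_mul, add_zero] at hn
    exact hv.2 ((ZMod.castHom (dvd_refl 3) F).injective (hn.trans (map_zero _).symm))
  intro x y h
  by_contra hne
  exact h0 (x - y) (sub_ne_zero.mpr hne) (by rw [kk_sub, h, sub_self])

theorem toMat_injective (hi : i * i = -1) : Function.Injective (toMat i) := by
  intro A B h
  have e : ∀ r c : Fin 3, toMat i A r c = toMat i B r c := fun r c => by rw [h]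
  have k := kk_injective hi
  refine Prod.ext (Prod.ext ?_ (Prod.ext ?_ ?_))
    (Prod.ext (Prod.ext ?_ (Prod.ext ?_ ?_)) (Prod.ext ?_ (Prod.ext ?_ ?_)))
  · exact k (by simpa [toMat] using e 0 0)
  · exact k (by simpa [toMat] using e 0 1)
  · exact k (by simpa [toMat] using e 0 2)
  · exact k (by simpa [toMat] using e 1 0)
  · exact k (by simpa [toMat] using e 1 1)
  · exact k (by simpa [toMat] using e 1 2)
  · exact k (by simpa [toMat] using e 2 0)
  · exact k (by simpa [toMat] using e 2 1)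
  · exact k (by simpa [toMat] using e 2 2)

theorem phi_mul (hi : i * i = -1) (g h : Schur.A7) :
    toMat i (phi (g * h)) = toMat i (phi g) * toMat i (phi h) := by
  let S : Submonoid Schur.A7 :=
    { carrier := {g | ∀ h, toMat i (phi (g * h)) = toMat i (phi g) * toMat i (phi h)}
      one_mem' := fun h => by rw [one_mul, phi_one, toMat_one, one_mul]
      mul_mem' := fun {x y} hx hy h => by rw [mul_assoc, hx, hy, hx, mul_assoc] }
  have hT1 : Schur.cT 1 ∈ S := fun h => by rw [phi_T, toMat_mm hi, phi_cT]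
  have hW : Schur.cW ∈ S := fun h => by rw [phi_W, toMat_mm hi, phi_cW]
  have hT : ∀ x, Schur.cT x ∈ S := fun x => by
    have e : ∀ x : ZMod 7, Schur.cT x = Schur.cT 1 ^ x.val := by decide +kernel
    exact e x ▸ pow_mem hT1 _
  have hD : ∀ a, Schur.cD a ∈ S := fun a => by
    unfold Schur.cD
    exact mul_mem (mul_mem hW hW)
      (mul_mem (mul_mem (mul_mem (mul_mem (mul_mem (hT _) hW) (hT _)) hW) (hT _)) hW)
  suffices g ∈ S from this h
  have hd := Schur.det_eq g
  by_cases hc : g.1 1 0 = 0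
  · obtain ⟨ha, h2, h3⟩ :=
      Schur.decomp_zero (g.1 0 0) (g.1 0 1) (g.1 1 1) (by simpa [hc] using hd)
    obtain ⟨e1, e2, e3, e4⟩ := Schur.cD_val _ ha
    have : g = Schur.cD (g.1 0 0) * Schur.cT (g.1 0 1 * g.1 0 0 ^ 5) := by
      rw [h3] at h2
      apply Schur.ext_entries <;> simp [Schur.cT_val, Schur.val_mul, e1, e2, e3, e4, hc, h2, h3]
    exact this ▸ mul_mem (hD _) (hT _)
  · obtain ⟨h1, h2, h3⟩ := Schur.decomp_ne _ _ _ _ hd hc
    obtain ⟨e1, e2, e3, e4⟩ := Schur.cD_val _ hc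
    rw [h1] at h2
    have : g = Schur.cT (g.1 0 0 * g.1 1 0 ^ 5) * Schur.cW * Schur.cD (g.1 1 0) *
        Schur.cT (g.1 1 1 * g.1 1 0 ^ 5) := by
      apply Schur.ext_entries <;>
        simp [Schur.cT_val, Schur.cW_val, Schur.val_mul, e1, e2, e3, e4, h1, h2, h3]
    exact this ▸ mul_mem (mul_mem (mul_mem (hT _) hW) (hD _)) (hT _)

theorem det_toMat (hi : i * i = -1) (M : M9) : (toMat i M).det = kk i (det9 M) := by
  simp only [det9, kk_add, kk_sub, kk_mul hi]
  rw [Matrix.det_fin_three]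
  simp [toMat]

variable [Fintype F]

theorem isUnitary_toMat (hF : Fintype.card F = 3 ^ 2) (hi : i * i = -1) {M : M9} (h : isSU M) :
    Unitary.IsUnitary 3 (toMat i M) := by
  rw [Unitary.isUnitary_iff_orthonormal hF]
  have h1 := h.1
  simp only [one9, Prod.mk.injEq] at h1
  obtain ⟨⟨h00, h01, h02⟩, ⟨h10, h11, h12⟩, h20, h21, h22⟩ := h1
  refine ⟨fun r => ?_, fun r c hrc => ?_⟩
  · fin_cases r <;>
      simp [Cfsg.hermForm, Fin.sum_univ_three, toMat, ← kk_conj hi, ← kk_mul hi, ← kk_add] <;>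
      first
        | (exact (congrArg (kk i) h00).trans (kk_one i))
        | (exact (congrArg (kk i) h11).trans (kk_one i))
        | (exact (congrArg (kk i) h22).trans (kk_one i))
  · fin_cases r <;> fin_cases c <;>
      first
        | exact absurd rfl hrc
        | (simp [Cfsg.hermForm, Fin.sum_univ_three, toMat, ← kk_conj hi, ← kk_mul hi, ← kk_add]
           first
            | (exact (congrArg (kk i) h01).trans (kk_zero i))
            | (exact (congrArg (kk i) h02).trans (kk_zero i))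
            | (exact (congrArg (kk i) h10).trans (kk_zero i))
            | (exact (congrArg (kk i) h12).trans (kk_zero i))
            | (exact (congrArg (kk i) h20).trans (kk_zero i))
            | (exact (congrArg (kk i) h21).trans (kk_zero i)))

/-- The homomorphism. -/
theorem exists_hom (hF : Fintype.card F = 3 ^ 2) :
    ∃ f : Schur.A7 →* Cfsg.SU 3 F 3, Subgroup.center Schur.A7 ≤ f.ker ∧
      f (Schur.cT 1) * f Schur.cW ≠ f Schur.cW * f (Schur.cT 1) := by
  obtain ⟨i, hi⟩ : IsSquare (-1 : F) := by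
    rw [FiniteField.isSquare_neg_one_iff, hF]; norm_num
  have hi' : i * i = -1 := hi.symm
  have hsu : ∀ g, isSU (phi g) := fun g => entry_SU _ _ _ _ (Schur.det_eq g)
  have hd : ∀ g, (toMat i (phi g)).det = 1 := fun g => by
    rw [det_toMat hi', (hsu g).2, kk_one]
  let f : Schur.A7 →* Cfsg.SU 3 F 3 :=
    { toFun := fun g => Unitary.suOfUnitary (toMat i (phi g)) (isUnitary_toMat hF hi' (hsu g)) (hd g)
      map_one' := Subtype.ext (Subtype.ext (by
        show toMat i (phi 1) = 1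
        rw [phi_one, toMat_one]))
      map_mul' := fun g h => Subtype.ext (Subtype.ext (phi_mul hi' g h)) }
  have hval : ∀ g, ((f g : Matrix.SpecialLinearGroup (Fin 3) F) : Matrix (Fin 3) (Fin 3) F) =
      toMat i (phi g) := fun g => rfl
  refine ⟨f, fun g hg => ?_, fun h => ?_⟩
  · have h1 := Subgroup.mem_center_iff.mp hg (Schur.cT 1)
    have h2 := Subgroup.mem_center_iff.mp hg Schur.cW
    have h10 : g.1 0 0 + g.1 1 0 = g.1 0 0 := by
      simpa [Schur.cT_val, Schur.val_mul] using congrArg (fun x : Schur.A7 => x.1 0 0) h1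
    have h11 : g.1 0 1 + g.1 1 1 = g.1 0 0 + g.1 0 1 := by
      simpa [Schur.cT_val, Schur.val_mul] using congrArg (fun x : Schur.A7 => x.1 0 1) h1
    have h20 : 6 * g.1 1 0 = g.1 0 1 := by
      simpa [Schur.cW_val, Schur.val_mul] using congrArg (fun x : Schur.A7 => x.1 0 0) h2
    have h21 : 6 * g.1 1 1 = 6 * g.1 0 0 := by
      simpa [Schur.cW_val, Schur.val_mul, mul_comm] using congrArg (fun x : Schur.A7 => x.1 0 1) h2
    refine MonoidHom.mem_ker.mpr (Subtype.ext (Subtype.ext ?_))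
    show toMat i (phi g) = 1
    rw [phi, entry_central _ _ _ _ (Schur.det_eq g) h10 h11 h20 h21, toMat_one]
  · rw [← map_mul, ← map_mul] at h
    have h' := congrArg (fun x : Cfsg.SU 3 F 3 =>
      ((x : Matrix.SpecialLinearGroup (Fin 3) F) : Matrix (Fin 3) (Fin 3) F)) h
    simp only [hval, phi_T, phi_W, phi_cT, phi_cW] at h'
    exact not_comm (toMat_injective hi' h')

end Cfsg.Agent.U33L27
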